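import Cfsg.Agent.Lib.KnownSimple.Pres.Fast

/-!
# The check of the relators of a presentation, row by row
-/

set_option autoImplicit false

namespace Cfsg.Agent.Lib.KnownSimple.Pres

open Cfsg.Agent.Lib.Compute Cfsg.Agent.Lib.KnownSimple.PE Cfsg.Agent.Lib.KnownSimple.Leech Cfsg.Spor

section std

variable {α : Type*} [DecidableEq α] {edges : List (α × ℕ × α)} {extra : List (FreeGroup α)} (S : StdPres edges extra) {N : ℕ}

/-- A row of the check of the graph relators. -/
noncomputable def coxRow (T : ℕ → ℕ → ℕ) (x : α) : Bool :=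
  S.gs.all fun y => allBelow (fun i =>
    Nat.beq (iterN (fun q => T (S.gs.idxOf x) (T (S.gs.idxOf y) q)) (coxLabel edges x y) i) i) N

theorem coxChk_of_rows (T : ℕ → ℕ → ℕ) (h : ∀ x, coxRow (N := N) S T x = true) : coxChk (N := N) S T = true :=
  List.all_eq_true.2 fun x _ => h x

/-- A row of the check of the further relators. -/
noncomputable def extRow (T : ℕ → ℕ → ℕ) (W : List ℕ) : Bool :=
  allBelow (fun i => Nat.beq (walkL T (W.map (nmOf S.gs.length)) i) i) N

theorem extChk_of_rows (T : ℕ → ℕ → ℕ) (Ws : List (List ℕ)) (hW : S.extraW = Ws)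
    (h : ∀ W ∈ Ws, extRow (N := N) S T W = true) : extChk (N := N) S T = true := by
  unfold extChk
  rw [hW]
  exact List.all_eq_true.2 h

end std

end Cfsg.Agent.Lib.KnownSimple.Pres
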