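import Cfsg.Agent.Lib.KnownSimple.Pres.Leaf

/-!
# A search along a chain whose leaves are first tested for the relation on a list of points
-/

set_option autoImplicit false

namespace Cfsg.Agent.Lib.KnownSimple.Pres

open Cfsg Cfsg.Agent.Lib.Compute Cfsg.Agent.Lib.KnownSimple.AutRigid Cfsg.Agent.Lib.KnownSimple.Leech Cfsg.Agent.Lib.KnownSimple.PE

section search

variable {α : Type*} {n : ℕ} {E : Enc α n}
variable {H : Subgroup (Equiv.Perm α)} {gram : ℕ → ℕ → ℕ} {σ τ τ' : Equiv.Perm α} {f f' : ℕ → ℕ}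

/-- The test at a leaf: the candidate does not intertwine on a list of points, or it is in a list. -/
noncomputable def leafU (tests bases : List ℕ) (f f' : ℕ → ℕ) (cs : ℕ → ℕ → ℕ) (K : ℕ) (c : ℕ → ℕ) : Bool :=
  bcond (tests.all (fun b => Nat.beq (c (f b)) (f' (c b)))) (inListT bases cs K (bases.map c)) true

/-- The conclusion of a search with a test at the leaves: the element is in the list. -/
theorem mem_list_of_searchU {cE : ℕ → Equiv.Perm α} {cs : ℕ → ℕ → ℕ} {K : ℕ} (hg : GramInv E H gram)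
    (hσ : σ ∈ H) (hf : E.IsCode τ f) (hf' : E.IsCode τ' f') (hh : σ * τ = τ' * σ) (ord : ℕ) {L0 : Lev}
    {Ls : List (Lev × List ℕ)} {bases tests : List ℕ} (htests : ∀ b ∈ tests, b < n)
    (hLs : ChainSem E H (L0 :: Ls.map Prod.fst)) (hb : bases = basesOf (L0 :: Ls.map Prod.fst))
    (hcov : ∀ Lo ∈ Ls, covOK n Lo.1.D Lo.2 = true)
    (hcE : ∀ i, i < K → cE i ∈ H) (hcs : ∀ i, i < K → E.IsCode (cE i) (cs i))
    (h : allBelow (topBody gram f f' ord (leafU tests bases f f' cs K) L0 Ls) n = true) :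
    ∃ i, i < K ∧ σ = cE i := by
  obtain ⟨K', h1, h2⟩ := hLs
  have hy : σ (E.pt L0.b) = E.pt (E.idx (σ (E.pt L0.b))) := (E.pt_idx _).symm
  set y := E.idx (σ (E.pt L0.b)) with hydef
  have hylt : y < n := E.idx_lt _
  have hD : tb L0.D y = true := h1.orbit σ hσ
  have h3 := (allBelow_iff _ _).1 h y hylt
  have h3' : bcond (consAll gram f f' ord L0.b y [])
    (srchO gram f f' ord (leafU tests bases f f' cs K) Ls (fun p => L0.dn y p) [(L0.b, y)]) true = true := by
    have e : topBody gram f f' ord (leafU tests bases f f' cs K) L0 Ls y = bcond (tb L0.D y) (bcond (consAll gram f f' ord L0.b y [])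
      (srchO gram f f' ord (leafU tests bases f f' cs K) Ls (fun p => L0.dn y p) [(L0.b, y)]) true) true := rfl
    rw [e, hD, bcond_true] at h3
    exact h3
  have hσb : y = cdOf E σ L0.b := rfl
  have h4 : consAll gram f f' ord L0.b y [] = true := by
    rw [hσb]
    exact consAll_true hg hσ hf hf' hh ord L0.b h1.b_lt [] (by simp)
  rw [h4, bcond_true] at h3'
  obtain ⟨t, ht, ht2, ht3, _⟩ := h1.trans y hylt hD
  have hρ' : t⁻¹ * σ ∈ K' := by
    apply h1.stab _ (H.mul_mem (H.inv_mem ht) hσ)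
    rw [Equiv.Perm.mul_apply, Equiv.Perm.inv_eq_iff_eq, ht2, hy]
  obtain ⟨c, hc, hl⟩ := srchO_spec hg hσ hf hf' hh ord _ h2 hcov t (t⁻¹ * σ) hρ' (by group) (fun p => L0.dn y p)
    ht3 [(L0.b, y)] (by
      intro q hq
      rcases List.mem_singleton.1 hq with rfl
      exact ⟨h1.b_lt, hσb⟩) h3'
  have hchain : ChainSem E H (L0 :: Ls.map Prod.fst) := ⟨K', h1, h2⟩
  have hreps := bases_lt hchain
  have h1' : tests.all (fun b => Nat.beq (c (f b)) (f' (c b))) = true := by
    rw [List.all_eq_true]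
    intro b hb'
    have h2' : σ (τ (E.pt b)) = τ' (σ (E.pt b)) := congrArg (fun e : Equiv.Perm α => e (E.pt b)) hh
    have hbn := htests b hb'
    have h3'' : c (f b) = f' (c b) := by
      have h4' := code_idx (isCode_mul hc hf) hbn
      have h5 := code_idx (isCode_mul hf' hc) hbn
      rw [← h4', ← h5]
      simp only [Equiv.Perm.mul_apply, h2']
    rw [h3'']
    exact Nat.beq_refl _
  rw [leafU, h1', bcond_true] at hl
  obtain ⟨i, hi, h5⟩ := (anyBelow_iff _ _).1 hl
  refine ⟨i, hi, ?_⟩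
  have h6 := lbeq_eq h5
  subst hb
  refine eq_of_base (based_of_chain hchain) hreps hσ (hcE i hi) hc (hcs i hi) fun b hb' => ?_
  have h7 := List.map_eq_map_iff.1 h6 b hb'
  exact h7.symm

end search

end Cfsg.Agent.Lib.KnownSimple.Pres
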